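import Cfsg.Agent.Bender85.BadTop.Tools

/-!
Subgroups `X` of a two-point stabiliser whose normaliser has rank two, both points as centres and
involutions not centralising `X`; the elementary group of involutions at a centre modulo the core.
-/

set_option autoImplicit false
set_option linter.style.haveILetI false
set_option linter.unusedSectionVars false

namespace Cfsg.Agent.Bender85.BadTop

open Subgroup MulAction Bender43 Bender43.Fixed

universe u

variable {G : Type u} [Group G] [Finite G] {H : Subgroup G}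

/-- Two commuting involutions at `c` in `N`. -/
def FourAt (N : Subgroup G) (c : G ⧸ H) : Prop :=
  ∃ e ∈ N, ∃ f ∈ N, e ∈ invAt H c ∧ f ∈ invAt H c ∧ e ≠ f ∧ Commute e f

theorem FourAt.rankTwo {N : Subgroup G} {c : G ⧸ H} (h : FourAt N c) :
    BenderCons37.RankTwo N := by
  obtain ⟨e, he, f, hf, he', hf', hne, hcom⟩ := h
  exact ⟨⟨e, he⟩, ⟨f, hf⟩, fun h1 => TwoFusionB.ne_one_of_inv he'.1 (congrArg Subtype.val h1),
    fun h1 => TwoFusionB.ne_one_of_inv hf'.1 (congrArg Subtype.val h1),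
    fun h1 => hne (congrArg Subtype.val h1), Subtype.ext (TwoFusionB.sq_eq_one_of_inv he'.1),
    Subtype.ext (TwoFusionB.sq_eq_one_of_inv hf'.1), Subtype.ext hcom.eq⟩

/-- `X ≤ G_ab` is an `r`-group whose normaliser has a four-group at `a`, an involution at `b`,
and an involution not centralising `X`. -/
structure Bad (r : ℕ) (a b : G ⧸ H) (X : Subgroup G) : Prop where
  pgroup : IsPGroup r X
  le : X ≤ stab2 a b
  four : FourAt (normalizer (X : Set G)) a
  other : ∃ w ∈ normalizer (X : Set G), w ∈ invAt H b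
  moving : ∃ t ∈ normalizer (X : Set G), orderOf t = 2 ∧ t ∉ centralizer (X : Set G)

variable (hC : Ctx H)
include hC

theorem fourAt_conj {N : Subgroup G} {v w : G} (hv : v ∈ N) (hv2 : orderOf v = 2) (hw : w ∈ N)
    (hw2 : orderOf w = 2) {cv cw : G ⧸ H} (hvc : v • cv = cv) (hwc : w • cw = cw) (hne : cv ≠ cw)
    (hR : BenderCons37.RankTwo N) {t : G} (ht : t ∈ N) (ht2 : orderOf t = 2) {c : G ⧸ H}
    (htc : t • c = c) : FourAt N c := by
  obtain ⟨p, q, hp, hq, hpq, hpp, hqq, hcom⟩ := hR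
  obtain ⟨g, hg, hgp⟩ := isConj_in hC hv hv2 hw hw2 hvc hwc hne p.2
    ((orderOf_coe p).trans (BenderCons37.orderOf_eq_two hp hpp)) ht ht2
  have hf2 : orderOf (g * q * g⁻¹) = 2 := by
    rw [TwoFusionB.orderOf_conj_eq, orderOf_coe]
    exact BenderCons37.orderOf_eq_two hq hqq
  have htf : Commute t (g * q * g⁻¹) := by
    have h : Commute (p : G) q := congrArg Subtype.val hcom
    show t * (g * q * g⁻¹) = g * q * g⁻¹ * t
    rw [← hgp]
    calc g * p * g⁻¹ * (g * q * g⁻¹) = g * (p * q) * g⁻¹ := by group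
      _ = g * (q * p) * g⁻¹ := by rw [h.eq]
      _ = _ := by group
  refine ⟨t, ht, g * q * g⁻¹, mul_mem (mul_mem hg q.2) (inv_mem hg), ⟨ht2, htc⟩,
    ⟨hf2, TwoFusionB.fix_unique hC.se ht2 (by rw [smul_smul, htf.eq, ← smul_smul, htc]) htc⟩,
    fun e => hpq (Subtype.ext ?_), htf⟩
  rw [← hgp] at e
  exact mul_left_cancel (mul_right_cancel e)

section

variable {r : ℕ} {a b : G ⧸ H} (hab : a ≠ b) {X : Subgroup G} (hX : Bad r a b X)
include hab hX

theorem Bad.fourAt_centre {t : G} (ht : t ∈ normalizer (X : Set G)) (ht2 : orderOf t = 2)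
    {c : G ⧸ H} (htc : t • c = c) : FourAt (normalizer (X : Set G)) c := by
  obtain ⟨e, he, f, hf, he', hf', hne, hcom⟩ := hX.four
  obtain ⟨w, hw, hw'⟩ := hX.other
  exact fourAt_conj hC he he'.1 hw hw'.1 he'.2 hw'.2 hab
    (FourAt.rankTwo ⟨e, he, f, hf, he', hf', hne, hcom⟩) ht ht2 htc

theorem Bad.not_mem_centralizer {t : G} (ht : t ∈ normalizer (X : Set G)) (ht2 : orderOf t = 2) :
    t ∉ centralizer (X : Set G) := by
  intro hc
  obtain ⟨e, he, f, hf, he', hf', hne, hcom⟩ := hX.four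
  obtain ⟨w, hw, hw'⟩ := hX.other
  obtain ⟨s, hs, hs2, hsc⟩ := hX.moving
  obtain ⟨g, hg, hgt⟩ := isConj_in hC he he'.1 hw hw'.1 he'.2 hw'.2 hab ht ht2 hs hs2
  refine hsc (hgt ▸ ?_)
  exact (mem_normalizer_iff.1 (Coprime.le_normalizer_centralizer (A := normalizer (X : Set G))
    le_rfl hg) t).1 hc

theorem Bad.ne_bot : X ≠ ⊥ := by
  rintro rfl
  obtain ⟨e, he, f, hf, he', -⟩ := hX.four
  exact hX.not_mem_centralizer hC hab he he'.1
    (mem_centralizer_iff.2 fun z hz => by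
      rw [SetLike.mem_coe, mem_bot] at hz
      rw [hz, one_mul, mul_one])

theorem Bad.odd_card : Odd (Nat.card X) :=
  (odd_stab2 hC.se hab).of_dvd_nat (card_dvd_of_le hX.le)

theorem Bad.normalizer_ne_top : normalizer (X : Set G) ≠ ⊤ := by
  intro htop
  have hn : X.Normal := normalizer_eq_top_iff.1 htop
  have hle : X ≤ Cfsg.oddCore G :=
    Thompson.le_pPrimeCore hn (Nat.coprime_two_right.2 (hX.odd_card hC hab))
  rw [hC.core, le_bot_iff] at hle
  exact hX.ne_bot hC hab hle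

theorem Bad.le_core :
    X ≤ (Cfsg.oddCore ↥(normalizer (X : Set G))).map (normalizer (X : Set G)).subtype := by
  have hn : (X.subgroupOf (normalizer (X : Set G))).Normal := normal_in_normalizer
  intro x hx
  exact ⟨⟨x, le_normalizer hx⟩, Thompson.le_pPrimeCore hn (Nat.coprime_two_right.2 (by
    rw [Nat.card_congr (subgroupOfEquivOfLe le_normalizer).toEquiv]
    exact hX.odd_card hC hab)) (mem_subgroupOf.2 hx), rfl⟩

theorem Bad.core_le_stabilizer {t : G} (ht : t ∈ normalizer (X : Set G)) (ht2 : orderOf t = 2)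
    {c : G ⧸ H} (htc : t • c = c) :
    (Cfsg.oddCore ↥(normalizer (X : Set G))).map (normalizer (X : Set G)).subtype ≤
      stabilizer G c := by
  obtain ⟨e, he, f, hf, he', hf', hne, hcom⟩ := hX.four
  obtain ⟨w, hw, hw'⟩ := hX.other
  exact core_fix hC (hX.normalizer_ne_top hC hab) he he'.1 hw hw'.1 he'.2 hw'.2 hab
    (FourAt.rankTwo ⟨e, he, f, hf, he', hf', hne, hcom⟩) ht ht2 htc

theorem Bad.core_le_stab2 :
    (Cfsg.oddCore ↥(normalizer (X : Set G))).map (normalizer (X : Set G)).subtype ≤ stab2 a b := by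
  obtain ⟨e, he, f, hf, he', hf', -⟩ := hX.four
  obtain ⟨w, hw, hw'⟩ := hX.other
  exact le_inf (hX.core_le_stabilizer hC hab he he'.1 he'.2)
    (hX.core_le_stabilizer hC hab hw hw'.1 hw'.2)

end

/-- Transfer of badness to a Sylow `r`-subgroup of an odd subgroup of `G_ab` normalised by a
four-group at `a` and an involution at `b`. -/
theorem bad_of_max {r : ℕ} [Fact r.Prime] {a b : G ⧸ H} (hab : a ≠ b) {L T U : Subgroup G}
    (hLD : L ≤ stab2 a b) (hT : Max r T L) {e f w : G} (he : e ∈ invAt H a) (hf : f ∈ invAt H a)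
    (hne : e ≠ f) (hcom : Commute e f) (hw : w ∈ invAt H b)
    (heL : e ∈ normalizer (L : Set G)) (hfL : f ∈ normalizer (L : Set G))
    (hwL : w ∈ normalizer (L : Set G)) (hU : IsPGroup r U) (hUL : U ≤ L)
    (heU : e ∈ normalizer (U : Set G)) (heUc : e ∉ centralizer (U : Set G)) : Bad r a b T := by
  haveI : Fact (Nat.Prime 2) := ⟨Nat.prime_two⟩
  have hL : Odd (Nat.card L) := (odd_stab2 hC.se hab).of_dvd_nat (card_dvd_of_le hLD)
  have hfix : ∀ {v l : G} {c : G ⧸ H}, v • c = c → l • c = c → (l * v * l⁻¹) • c = c := by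
    intro v l c hv hl
    rw [mul_smul, mul_smul, inv_smul_eq_iff.2 hl.symm, hv, hl]
  obtain ⟨l, hl, hlA⟩ := exists_conj_norm hT hL
    (isPGroup_four he.1 hf.1 hcom) (sup_le (zpowers_le.2 heL) (zpowers_le.2 hfL))
  obtain ⟨k, hk, hkA⟩ := exists_conj_norm hT hL
    (IsPGroup.of_card (n := 1) (by rw [Nat.card_zpowers, hw.1, pow_one]) : IsPGroup 2 (zpowers w))
    (zpowers_le.2 hwL)
  have hla : l • a = a := mem_stabilizer_iff.1 (mem_inf.1 (hLD hl)).1
  have hle : l * e * l⁻¹ ∈ normalizer (T : Set G) := hlA e (mem_sup_left (mem_zpowers e))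
  refine ⟨hT.pgroup, hT.le.trans hLD,
    ⟨l * e * l⁻¹, hle, l * f * l⁻¹, hlA f (mem_sup_right (mem_zpowers f)),
      ⟨by rw [TwoFusionB.orderOf_conj_eq, he.1], hfix he.2 hla⟩,
      ⟨by rw [TwoFusionB.orderOf_conj_eq, hf.1], hfix hf.2 hla⟩,
      fun h => hne (mul_left_cancel (mul_right_cancel h)), hcom.map (MulAut.conj l).toMonoidHom⟩,
    ⟨k * w * k⁻¹, hkA w (mem_zpowers w), by rw [TwoFusionB.orderOf_conj_eq, hw.1],
      hfix hw.2 (mem_stabilizer_iff.1 (mem_inf.1 (hLD hk)).2)⟩,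
    ⟨l * e * l⁻¹, hle, by rw [TwoFusionB.orderOf_conj_eq, he.1], fun hc => ?_⟩⟩
  exact heUc (mem_centralizer_of_conj hT hL he.1 heL hl hc hU hUL heU)

/-- The involutions at a centre generate, modulo the core, an elementary group, the image of an
elementary 2-group. -/
theorem exists_root {N : Subgroup G} (hN : N ≠ ⊤) {v w : G} (hv : v ∈ N) (hv2 : orderOf v = 2)
    (hw : w ∈ N) (hw2 : orderOf w = 2) {cv cw : G ⧸ H} (hvc : v • cv = cv) (hwc : w • cw = cw)
    (hne : cv ≠ cw) {c : G ⧸ H} (h4 : FourAt N c) :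
    ∃ E : Subgroup G, IsPGroup 2 E ∧ E ≤ N ⊓ stabilizer G c ∧ FourAt E c ∧
      (∀ x ∈ E, x * x = 1) ∧ (∀ x ∈ E, ∀ y ∈ E, x * y = y * x) ∧
      (∀ g ∈ N ⊓ stabilizer G c, g ∈ normalizer
        (((Cfsg.oddCore N).map N.subtype ⊔ E : Subgroup G) : Set G)) ∧
      (∀ i ∈ N, i ∈ invAt H c → i ∈ (Cfsg.oddCore N).map N.subtype ⊔ E) := by
  haveI : Fact (Nat.Prime 2) := ⟨Nat.prime_two⟩
  obtain ⟨e, he, f, hf, he', hf', hef, hcom⟩ := h4
  have hR : BenderCons37.RankTwo N := FourAt.rankTwo ⟨e, he, f, hf, he', hf', hef, hcom⟩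
  set O := Cfsg.oddCore N with hO
  set K := O.map N.subtype with hK
  set π := QuotientGroup.mk' O with hπ
  have hKc : K ≤ stabilizer G c := core_fix hC hN hv hv2 hw hw2 hvc hwc hne hR he he'.1 he'.2
  have hKodd : Odd (Nat.card K) :=
    BenderCons37.oddCore_card_odd.of_dvd_nat (Subgroup.card_map_dvd _ _)
  set I : Set N := {i | (i : G) ∈ invAt H c} with hI
  set W := closure (π '' I) with hW
  have hWcomm : ∀ x ∈ W, ∀ y ∈ W, x * y = y * x := by
    have h1 : W ≤ centralizer (π '' I) := by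
      rw [hW, closure_le]
      rintro _ ⟨i, hi, rfl⟩
      rw [SetLike.mem_coe, mem_centralizer_iff]
      rintro _ ⟨j, hj, rfl⟩
      have hm := commutator_mem hC hN hv hv2 hw hw2 hvc hwc hne hR j.2 hj.1 i.2 hi.1 hj.2 hi.2
      obtain ⟨o, ho, hoe⟩ := hm
      have h2 : π (j * i * j⁻¹ * i⁻¹) = 1 := by
        rw [← show o = j * i * j⁻¹ * i⁻¹ from Subtype.ext hoe]
        exact (QuotientGroup.eq_one_iff o).2 ho
      rw [map_mul, map_mul, map_mul, map_inv, map_inv, mul_inv_eq_one, mul_inv_eq_iff_eq_mul] at h2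
      exact h2
    intro x hx y hy
    have h2 : x ∈ centralizer (W : Set (N ⧸ O)) := by
      rw [hW, centralizer_closure]; exact h1 hx
    exact (mem_centralizer_iff.1 h2 y hy).symm
  have hWsq : ∀ x ∈ W, x * x = 1 := by
    intro x hx
    rw [hW] at hx
    induction hx using closure_induction with
    | mem x hx =>
      obtain ⟨i, hi, rfl⟩ := hx
      rw [← map_mul, show i * i = 1 from Subtype.ext (TwoFusionB.sq_eq_one_of_inv hi.1), map_one]
    | one => rw [one_mul]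
    | mul x y hx hy hxx hyy =>
      rw [show x * y * (x * y) = x * (y * x) * y by group, hWcomm y hy x hx,
        show x * (x * y) * y = (x * x) * (y * y) by group, hxx, hyy, one_mul]
    | inv x _ hxx => rw [← mul_inv_rev, hxx, inv_one]
  set M := (W.comap π).map N.subtype ⊓ stabilizer G c with hM
  have hMN : M ≤ N := inf_le_left.trans (map_subtype_le _)
  have hKM : K ≤ M := le_inf
    (map_mono fun o ho => mem_comap.2 (by
      rw [show π o = 1 from (QuotientGroup.eq_one_iff o).2 ho]; exact one_mem W)) hKc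
  have himem : ∀ i ∈ N, i ∈ invAt H c → i ∈ M := fun i hi hic => mem_inf.2
    ⟨⟨⟨i, hi⟩, subset_closure ⟨_, hic, rfl⟩, rfl⟩, hic.2⟩
  have hmem : ∀ x ∈ M, ∀ hx : x ∈ N, π ⟨x, hx⟩ ∈ W := by
    rintro _ ⟨⟨y, hy, rfl⟩, -⟩ hx
    exact hy
  have hker : ∀ x : G, ∀ hx : x ∈ N, π ⟨x, hx⟩ = 1 → x ∈ K := fun x hx h =>
    ⟨⟨x, hx⟩, (QuotientGroup.eq_one_iff _).1 h, rfl⟩
  have hA : IsPGroup 2 ↥(zpowers e ⊔ zpowers f) := isPGroup_four he'.1 hf'.1 hcom
  obtain ⟨E, hE, hAE⟩ := exists_max_ge hA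
    (sup_le (zpowers_le.2 (himem e he he')) (zpowers_le.2 (himem f hf hf')))
  have hEN : E ≤ N := hE.le.trans hMN
  have hEK : E ⊓ K = ⊥ := Thompson.inf_eq_bot_of_isPGroup_of_coprime hE.pgroup
    (Nat.coprime_two_right.2 hKodd)
  have hzero : ∀ x ∈ E, ∀ hx : x ∈ N, π ⟨x, hx⟩ = 1 → x = 1 := fun x hx hxN h => by
    have : x ∈ E ⊓ K := ⟨hx, hker x hxN h⟩
    rwa [hEK, mem_bot] at this
  have hsq : ∀ x ∈ E, x * x = 1 := fun x hx => hzero _ (mul_mem hx hx) (hEN (mul_mem hx hx))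
    ((map_mul π ⟨x, hEN hx⟩ ⟨x, hEN hx⟩).trans (hWsq _ (hmem x (hE.le hx) (hEN hx))))
  have hEM : K ⊔ E = M := by
    refine le_antisymm (sup_le hKM hE.le) ?_
    have hKn : M ≤ normalizer (K : Set G) :=
      hMN.trans (le_normalizer_map_subtype (Cfsg.oddCore N))
    haveI : (K.subgroupOf M).Normal := normal_subgroupOf_of_le_normalizer hKn
    have hp : IsPGroup 2 (↥M ⧸ K.subgroupOf M) := by
      intro q
      obtain ⟨g, rfl⟩ := QuotientGroup.mk_surjective q
      refine ⟨1, ?_⟩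
      rw [← QuotientGroup.mk_pow, QuotientGroup.eq_one_iff, mem_subgroupOf]
      push_cast
      refine hker _ (pow_mem (hMN g.2) _) ?_
      have h1 := hWsq _ (hmem g g.2 (hMN g.2))
      refine Eq.trans ?_ h1
      rw [← map_mul]
      exact congrArg π (Subtype.ext (by simp [pow_two]))
    obtain ⟨n, hn⟩ := IsPGroup.iff_card.1 hp
    have h3 : (K ⊔ E).relIndex M = 1 := by
      refine Nat.eq_one_of_dvd_coprimes (a := E.relIndex M) (b := 2 ^ n) ?_
        (relIndex_dvd_of_le_left M le_sup_right) (hn ▸ relIndex_dvd_of_le_left M le_sup_left)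
      exact Nat.Coprime.pow_right n (Nat.coprime_comm.1
        ((Nat.prime_two.coprime_iff_not_dvd).2 hE.coprime))
    exact relIndex_eq_one.1 h3
  refine ⟨E, hE.pgroup, le_inf hEN (hE.le.trans inf_le_right),
    ⟨e, hAE (mem_sup_left (mem_zpowers e)), f, hAE (mem_sup_right (mem_zpowers f)), he', hf', hef,
      hcom⟩, hsq, fun x hx y hy => ?_, fun g hg => ?_, fun i hi hic => hEM.symm ▸ himem i hi hic⟩
  · calc x * y = (x * y)⁻¹ := eq_inv_of_mul_eq_one_left (hsq _ (mul_mem hx hy))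
      _ = y⁻¹ * x⁻¹ := mul_inv_rev x y
      _ = y * x := by
        rw [← eq_inv_of_mul_eq_one_left (hsq x hx), ← eq_inv_of_mul_eq_one_left (hsq y hy)]
  · rw [hEM]
    obtain ⟨hgN, hgc⟩ := mem_inf.1 hg
    have key : ∀ g : G, g ∈ N → g • c = c → ∀ x ∈ M, g * x * g⁻¹ ∈ M := by
      intro g hgN hgc x hx
      obtain ⟨⟨y, hy, rfl⟩, hxc⟩ := mem_inf.1 hx
      refine mem_inf.2 ⟨⟨⟨g, hgN⟩ * y * ⟨g, hgN⟩⁻¹, ?_, rfl⟩, ?_⟩
      · have hW' : W.map (MulAut.conj (π ⟨g, hgN⟩)).toMonoidHom ≤ W := by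
          rw [hW, MonoidHom.map_closure, closure_le]
          rintro _ ⟨_, ⟨i, hi, rfl⟩, rfl⟩
          refine subset_closure ⟨⟨g, hgN⟩ * i * ⟨g, hgN⟩⁻¹, ⟨?_, ?_⟩, by simp⟩
          · show orderOf (g * (i : G) * g⁻¹) = 2
            rw [TwoFusionB.orderOf_conj_eq, hi.1]
          · show (g * (i : G) * g⁻¹) • c = c
            rw [mul_smul, mul_smul, inv_smul_eq_iff.2 hgc.symm, hi.2, hgc]
        show π _ ∈ W
        rw [map_mul, map_mul, map_inv]
        exact hW' ⟨π y, hy, rfl⟩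
      · rw [mem_stabilizer_iff] at hxc ⊢
        rw [mul_smul, mul_smul, inv_smul_eq_iff.2 hgc.symm, hxc, hgc]
    refine mem_normalizer_iff.2 fun x => ⟨key g hgN hgc x, fun hx => ?_⟩
    have := key g⁻¹ (inv_mem hgN) (inv_smul_eq_iff.2 (mem_stabilizer_iff.1 hgc).symm) _ hx
    simpa [mul_assoc] using this

end Cfsg.Agent.Bender85.BadTop
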