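import Cfsg.Agent.Bender85.Quad
import Cfsg.Agent.Bender85.Local
import Cfsg.Agent.PLocalB.PStable
import Cfsg.Agent.PLocalB.CharPStable
import Cfsg.Agent.PLocalB.NormalPComplementZJ

/-!
Group-theoretic tools for the top of a prime that is not good: Sylow subgroups of subgroups,
Frattini arguments for involutions, solvable joins, and Glauberman's factorisation when the Sylow
2-subgroups are abelian.
-/

set_option autoImplicit false
set_option linter.style.haveILetI false
set_option linter.unusedSectionVars false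

namespace Cfsg.Agent.Bender85.BadTop

open Subgroup
open scoped Pointwise

variable {G : Type*} [Group G] [Finite G] {p : ℕ} [Fact p.Prime]

/-- `T` is a Sylow `p`-subgroup of `L`, both subgroups of `G`. -/
structure Max (p : ℕ) (T L : Subgroup G) : Prop where
  pgroup : IsPGroup p T
  le : T ≤ L
  coprime : ¬ p ∣ T.relIndex L

theorem max_sylow {L : Subgroup G} (P : Sylow p L) : Max p ((P : Subgroup L).map L.subtype) L := by
  refine ⟨P.isPGroup'.map _, map_subtype_le _, ?_⟩
  rw [relIndex, subgroupOf, comap_map_eq_self_of_injective L.subtype_injective]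
  exact P.not_dvd_index

theorem exists_max_ge {U L : Subgroup G} (hU : IsPGroup p U) (h : U ≤ L) :
    ∃ T : Subgroup G, Max p T L ∧ U ≤ T := by
  obtain ⟨P, hP⟩ := (hU.comap_subtype (K := L)).exists_le_sylow
  exact ⟨_, max_sylow P, fun u hu => ⟨⟨u, h hu⟩, hP (mem_subgroupOf.2 hu), rfl⟩⟩

theorem Max.exists_sylow {T L : Subgroup G} (hT : Max p T L) :
    ∃ P : Sylow p L, (P : Subgroup L).map L.subtype = T := by
  refine ⟨(hT.pgroup.comap_subtype (K := L)).toSylow hT.coprime, ?_⟩
  exact map_subgroupOf_eq_of_le hT.le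

theorem Max.exists_conj {T T' L : Subgroup G} (hT : Max p T L) (hT' : Max p T' L) :
    ∃ l ∈ L, T' = T.map (MulAut.conj l).toMonoidHom := by
  obtain ⟨P, rfl⟩ := hT.exists_sylow
  obtain ⟨P', rfl⟩ := hT'.exists_sylow
  obtain ⟨c, rfl⟩ := MulAction.exists_smul_eq L P P'
  refine ⟨c, c.2, ?_⟩
  rw [Sylow.coe_subgroup_smul, Subgroup.map_map]
  ext x
  constructor
  · rintro ⟨y, hy, rfl⟩
    rw [SetLike.mem_coe, mem_pointwise_smul_iff_inv_smul_mem] at hy
    refine ⟨_, hy, ?_⟩
    simp [MulAut.smul_def, mul_assoc]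
  · rintro ⟨y, hy, rfl⟩
    exact ⟨_, smul_mem_pointwise_smul y (MulAut.conj c) (P : Subgroup L) hy, by simp [MulAut.smul_def]⟩

theorem Max.card_le {T U L : Subgroup G} (hT : Max p T L) (hU : IsPGroup p U) (h : U ≤ L) :
    Nat.card U ≤ Nat.card T := by
  obtain ⟨T', hT', hle⟩ := exists_max_ge hU h
  obtain ⟨l, -, rfl⟩ := hT.exists_conj hT'
  exact (card_le_of_le hle).trans (le_of_eq (card_map_of_injective (MulAut.conj l).injective))

theorem Max.eq_of_le {T U L : Subgroup G} (hT : Max p T L) (hU : IsPGroup p U) (hTU : T ≤ U)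
    (h : U ≤ L) : U = T :=
  (eq_of_le_of_card_ge hTU (hT.card_le hU h)).symm

theorem card_mul_relIndex {A B : Subgroup G} (h : A ≤ B) :
    Nat.card A * A.relIndex B = Nat.card B := by
  rw [← relIndex_bot_left, relIndex_mul_relIndex _ _ _ bot_le h, relIndex_bot_left]

theorem relIndex_sup_eq {T K : Subgroup G} (h : T ≤ normalizer (K : Set G)) :
    T.relIndex (K ⊔ T) = T.relIndex K := by
  have h1 := Thompson.card_sup_mul_card_inf h
  rw [← card_mul_relIndex (le_sup_right : T ≤ K ⊔ T),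
    ← card_mul_relIndex (inf_le_left : K ⊓ T ≤ K),
    show (K ⊓ T).relIndex K = T.relIndex K from inf_relIndex_left K T] at h1
  have h2 : Nat.card T * Nat.card (K ⊓ T : Subgroup G) * T.relIndex (K ⊔ T) =
      Nat.card T * Nat.card (K ⊓ T : Subgroup G) * T.relIndex K := by linarith
  exact Nat.eq_of_mul_eq_mul_left (Nat.mul_pos Nat.card_pos Nat.card_pos) h2

theorem Max.inf_normal {T L K : Subgroup G} (hT : Max p T L) (hKL : K ≤ L)
    (hn : T ≤ normalizer (K : Set G)) : Max p (T ⊓ K) K := by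
  refine ⟨hT.pgroup.to_le inf_le_left, inf_le_right, fun hd => hT.coprime ?_⟩
  rw [inf_relIndex_right, ← relIndex_sup_eq hn] at hd
  refine hd.trans ⟨(K ⊔ T).relIndex L, ?_⟩
  rw [relIndex_mul_relIndex _ _ _ le_sup_right (sup_le hKL hT.le)]

theorem max_sup {T K : Subgroup G} (hTp : IsPGroup p T) (hn : T ≤ normalizer (K : Set G))
    (hTK : ¬ p ∣ T.relIndex K) : Max p T (K ⊔ T) :=
  ⟨hTp, le_sup_right, by rwa [relIndex_sup_eq hn]⟩

theorem isPGroup_four {e f : G} (he : orderOf e = 2) (hf : orderOf f = 2) (hef : Commute e f) :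
    IsPGroup 2 ↥(zpowers e ⊔ zpowers f) := by
  haveI : Fact (Nat.Prime 2) := ⟨Nat.prime_two⟩
  have h : ∀ g : G, orderOf g = 2 → IsPGroup 2 (zpowers g) := fun g hg =>
    IsPGroup.of_card (n := 1) (by rw [Nat.card_zpowers, hg, pow_one])
  refine (h e he).to_sup_of_normal_right' (h f hf) (zpowers_le.2 ?_)
  refine mem_normalizer_iff.2 fun y => ⟨fun hy => ?_, fun hy => ?_⟩
  · obtain ⟨k, rfl⟩ := hy
    rw [(hef.zpow_right k).eq, mul_inv_cancel_right]
    exact zpow_mem (mem_zpowers f) k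
  · obtain ⟨k, hk⟩ := hy
    refine ⟨k, ?_⟩
    simp only at hk ⊢
    have h2 : Commute e (e * y * e⁻¹) := hk ▸ hef.zpow_right k
    rw [hk]
    have h3 := h2.eq
    calc e * y * e⁻¹ = e⁻¹ * (e * (e * y * e⁻¹)) := by group
      _ = e⁻¹ * (e * y * e⁻¹ * e) := by rw [h3]
      _ = y := by group

theorem inf_normalizer {A B : Subgroup G} {g : G} (hA : g ∈ normalizer (A : Set G))
    (hB : g ∈ normalizer (B : Set G)) : g ∈ normalizer ((A ⊓ B : Subgroup G) : Set G) := by
  refine mem_normalizer_iff.2 fun y => ?_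
  simp only [mem_inf]
  exact and_congr (mem_normalizer_iff.1 hA y) (mem_normalizer_iff.1 hB y)

/-- Frattini argument for a 2-group acting on an odd subgroup. -/
theorem exists_conj_norm {T L A : Subgroup G} (hT : Max p T L) (hL : Odd (Nat.card L))
    (hA : IsPGroup 2 A) (hAL : A ≤ normalizer (L : Set G)) :
    ∃ l ∈ L, ∀ e ∈ A, l * e * l⁻¹ ∈ normalizer (T : Set G) := by
  have hcop : (Nat.card A).Coprime (Nat.card L) := by
    haveI : Fact (Nat.Prime 2) := ⟨Nat.prime_two⟩
    obtain ⟨n, hn⟩ := IsPGroup.iff_card.1 hA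
    rw [hn]
    exact Nat.Coprime.pow_left n (Nat.coprime_two_left.2 hL)
  obtain ⟨P, hP⟩ := Coprime.exists_invariant_sylow A L hAL hcop
    (Or.inr (Bender43.solvable_of_odd hL)) p
  obtain ⟨l, hl, rfl⟩ := (max_sylow P).exists_conj hT
  refine ⟨l, hl, fun e he => ?_⟩
  rw [mem_normalizer_iff_map_conj_eq, Subgroup.map_map]
  have h1 := mem_normalizer_iff_map_conj_eq.1 (hP he)
  conv_rhs => rw [← h1, Subgroup.map_map]
  congr 1
  ext x
  simp [mul_assoc]

/-- An involution having a conjugate in `L` that centralises a Sylow subgroup of `L` centralises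
every `p`-subgroup of `L` that it normalises. -/
theorem mem_centralizer_of_conj {T L U : Subgroup G} (hT : Max p T L) (hL : Odd (Nat.card L))
    {e l : G} (he : orderOf e = 2) (heL : e ∈ normalizer (L : Set G)) (hl : l ∈ L)
    (hc : l * e * l⁻¹ ∈ centralizer (T : Set G)) (hU : IsPGroup p U) (hUL : U ≤ L)
    (heU : e ∈ normalizer (U : Set G)) : e ∈ centralizer (U : Set G) := by
  have hcop : (Nat.card (zpowers e)).Coprime (Nat.card L) := by
    rw [Nat.card_zpowers, he]
    exact Nat.coprime_two_left.2 hL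
  have hsol : Group.IsSolvable (zpowers e) ∨ Group.IsSolvable L :=
    Or.inr (Bender43.solvable_of_odd hL)
  obtain ⟨P, rfl⟩ := hT.exists_sylow
  set P0 := (⟨l, hl⟩⁻¹ : L) • P with hP0
  have hcen : ∀ x ∈ (P0 : Subgroup L), e * (x : G) = x * e := by
    intro x hx
    rw [hP0, Sylow.coe_subgroup_smul, mem_pointwise_smul_iff_inv_smul_mem] at hx
    have h2 := mem_centralizer_iff.1 hc _ ⟨_, hx, rfl⟩
    simp [MulAut.smul_def] at h2
    exact h2.symm
  obtain ⟨Q, hUQ, heQ⟩ := Coprime.exists_invariant_sylow_ge (zpowers e) L (zpowers_le.2 heL) hcop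
    hsol p U hUL hU (zpowers_le.2 heU)
  have heP0 : zpowers e ≤ normalizer (((P0 : Subgroup L).map L.subtype : Subgroup G) : Set G) := by
    refine zpowers_le.2 (centralizer_le_normalizer _ (mem_centralizer_iff.2 ?_))
    rintro _ ⟨x, hx, rfl⟩
    exact (hcen x hx).symm
  obtain ⟨g, hg, hgQ⟩ := Coprime.exists_invariant_sylow_conj (zpowers e) L (zpowers_le.2 heL) hcop
    hsol p P0 Q heP0 heQ
  refine mem_centralizer_iff.2 fun u hu => ?_
  obtain ⟨x, hx, rfl⟩ := hUQ hu
  rw [← hgQ, Sylow.coe_subgroup_smul, SetLike.mem_coe,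
    mem_pointwise_smul_iff_inv_smul_mem] at hx
  have h1 := hcen _ hx
  have hge : (g : G) * e = e * g := (mem_centralizer_iff.1 hg e (mem_zpowers e)).symm
  simp [MulAut.smul_def] at h1
  show (x : G) * e = e * x
  calc (x : G) * e = g * ((g : G)⁻¹ * x * g * ((g : G)⁻¹ * (e * g))) * (g : G)⁻¹ := by group
    _ = g * ((g : G)⁻¹ * x * g * e) * (g : G)⁻¹ := by rw [← hge, inv_mul_cancel_left]
    _ = g * (e * ((g : G)⁻¹ * x * g)) * (g : G)⁻¹ := by
      congr 2
      simpa [mul_assoc] using h1.symm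
    _ = e * x := by
      calc (g : G) * (e * ((g : G)⁻¹ * x * g)) * (g : G)⁻¹ = (g * e) * (g : G)⁻¹ * x := by group
        _ = e * x := by rw [hge, mul_inv_cancel_right]

/-- The join of a solvable subgroup and a `p`-group normalising it is solvable. -/
theorem solvable_sup {A B : Subgroup G} (hA : Group.IsSolvable A)
    (hB : IsPGroup p B) (h : B ≤ normalizer (A : Set G)) :
    Group.IsSolvable ↥(A ⊔ B) := by
  haveI := hA
  haveI : (A.subgroupOf (A ⊔ B)).Normal :=
    normal_subgroupOf_of_le_normalizer (sup_le le_normalizer h)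
  haveI : Group.IsSolvable (A.subgroupOf (A ⊔ B)) :=
    Group.isSolvable_of_surjective
      (f := (subgroupOfEquivOfLe (le_sup_left : A ≤ A ⊔ B)).symm.toMonoidHom)
      (MulEquiv.surjective _)
  have hp : IsPGroup p (↥(A ⊔ B) ⧸ A.subgroupOf (A ⊔ B)) := by
    obtain ⟨n, hn⟩ := IsPGroup.iff_card.1 hB
    have h1 : Nat.card (↥(A ⊔ B) ⧸ A.subgroupOf (A ⊔ B)) = A.relIndex B := by
      show A.relIndex (A ⊔ B) = _
      have h2 := Thompson.card_sup_mul_card_inf h
      rw [← card_mul_relIndex (le_sup_left : A ≤ A ⊔ B),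
        ← card_mul_relIndex (inf_le_right : A ⊓ B ≤ B),
        show (A ⊓ B).relIndex B = A.relIndex B from inf_relIndex_right A B] at h2
      have h3 : Nat.card A * Nat.card (A ⊓ B : Subgroup G) * A.relIndex (A ⊔ B) =
          Nat.card A * Nat.card (A ⊓ B : Subgroup G) * A.relIndex B := by linarith
      exact Nat.eq_of_mul_eq_mul_left (Nat.mul_pos Nat.card_pos Nat.card_pos) h3
    obtain ⟨k, -, hk⟩ := (Nat.dvd_prime_pow (Fact.out : p.Prime)).1 (hn ▸ relIndex_dvd_card A B)
    exact IsPGroup.of_card (h1.trans hk)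
  haveI : Group.IsNilpotent (↥(A ⊔ B) ⧸ A.subgroupOf (A ⊔ B)) := hp.isNilpotent
  exact Group.isSolvable_of_ker_le_range (A.subgroupOf (A ⊔ B)).subtype
    (QuotientGroup.mk' (A.subgroupOf (A ⊔ B)))
    (by rw [QuotientGroup.ker_mk', Subgroup.range_subtype])

/-- Glauberman's factorisation for a solvable group with abelian Sylow 2-subgroups. -/
theorem zj_factor {M : Type*} [Group M] [Finite M] [Group.IsSolvable M] (hp2 : p ≠ 2)
    (hab : ∀ T : Sylow 2 M, ∀ s ∈ T, ∀ t ∈ T, Commute s t) (S : Sylow p M) :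
    Cfsg.pPrimeCore p M ⊔
      normalizer (Cfsg.centerThompsonAOf (S : Subgroup M) : Set M) = ⊤ := by
  haveI : Fact (Nat.Prime 2) := ⟨Nat.prime_two⟩
  set K := Cfsg.pPrimeCore p M with hK
  have hKc : (Nat.card K).Coprime p := Thompson.card_pPrimeCore_coprime
  set π := QuotientGroup.mk' K with hπ
  have hπs : Function.Surjective π := QuotientGroup.mk'_surjective K
  haveI : Group.IsSolvable (M ⧸ K) := Group.isSolvable_of_surjective (f := π) hπs
  have hbot : Cfsg.pPrimeCore p (M ⧸ K) = ⊥ := Thompson.pPrimeCore_quotient_pPrimeCore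
  have hF : Cfsg.fittingSubgroup (M ⧸ K) ≤ Cfsg.pCore p (M ⧸ K) := by
    rw [Fitting.fitting_eq_iSup_pCore, iSup_le_iff]
    rintro ⟨q, hq⟩
    haveI := Fact.mk hq
    by_cases hqp : q = p
    · subst hqp; exact le_rfl
    · refine le_trans (Thompson.le_pPrimeCore inferInstance ?_) (hbot.le.trans bot_le)
      obtain ⟨n, hn⟩ := IsPGroup.iff_card.1 (Thompson.isPGroup_pCore (p := q) (G := M ⧸ K))
      rw [hn]
      exact Nat.Coprime.pow_left n ((Nat.coprime_primes hq Fact.out).2 hqp)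
  have hc : centralizer (Cfsg.pCore p (M ⧸ K) : Set (M ⧸ K)) ≤ Cfsg.pCore p (M ⧸ K) :=
    (centralizer_le hF).trans (Fitting.centralizer_fitting_le.trans hF)
  have habQ : ∀ T : Sylow 2 (M ⧸ K), ∀ s ∈ T, ∀ t ∈ T, Commute s t := by
    intro T
    obtain ⟨T', rfl⟩ := Sylow.mapSurjective_surjective hπs 2 T
    rintro _ ⟨s, hs, rfl⟩ _ ⟨t, ht, rfl⟩
    exact (hab T' s hs t ht).map π
  have hinj : Set.InjOn π ((S : Subgroup M) : Set M) := by
    intro x hx y hy hxy
    have h : x⁻¹ * y ∈ (S : Subgroup M) ⊓ K :=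
      ⟨(S : Subgroup M).mul_mem ((S : Subgroup M).inv_mem hx) hy, QuotientGroup.eq.mp hxy⟩
    rw [Thompson.inf_eq_bot_of_isPGroup_of_coprime S.2 hKc, mem_bot, inv_mul_eq_one] at h
    exact h
  set Z := Cfsg.centerThompsonAOf (S : Subgroup M) with hZ
  have hn : (Cfsg.centerThompsonAOf ((S : Subgroup M).map π)).Normal := by
    show (Cfsg.centerThompsonAOf ((S.mapSurjective hπs : Sylow p (M ⧸ K)) : Subgroup (M ⧸ K))).Normal
    rw [PLocalB.centerThompsonAOf_eq_core]
    exact (PLocalB.abelianFamily (M ⧸ K)).core_normal hp2 hc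
      (fun V _ hV => LocalEvenD.isPStableOn_of_normalizerPStable
        (LocalEven61.isNormalizerPStable_of_not_involves hp2
          (not_involves_qd_of_abelian hp2 habQ)) V hV) _
  have hm := PLocalB.map_normalizer_eq K Z hKc
    (S.2.to_le (PLocalB.centerThompsonAOf_le _))
  rw [hZ, PLocalB.centerThompsonAOf_map _ _ hinj, normalizer_eq_top_iff.mpr hn] at hm
  have := congrArg (Subgroup.comap π) hm
  rwa [comap_map_eq, QuotientGroup.ker_mk', comap_top, sup_comm] at this

end Cfsg.Agent.Bender85.BadTop
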